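import Groth.Agent.H15Site.DoubleSS.Band
import Groth.Agent.H15Site.SpAbutment
import Mathlib.Algebra.Homology.HomotopyCategory.ShiftSequence
import Mathlib.Algebra.Category.Grp.Zero

/-!
# The spectral sequence from page one of a double complex

A double complex in the region `p ≥ -1`, `q ≥ 0` with exact rows gives a spectral sequence
`E₁^{p,q} = H^q(D^p) ⇒ H^{p+q}(D^{-1})`, with `p ≥ 0`.
-/

set_option autoImplicit false
set_option linter.style.haveILetI false
set_option linter.unusedSectionVars false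
set_option backward.isDefEq.respectTransparency false

universe u

open CategoryTheory CategoryTheory.Limits CategoryTheory.ComposableArrows

namespace Groth.Agent.H15Site.DoubleSS

open CategoryTheory.Abelian CategoryTheory.Abelian.SpectralObject SpAbutment

/-- The data for an `E₁` cohomological spectral sequence. -/
def core : SpectralSequenceDataCore EInt (fun r ↦ ComplexShape.up' (⟨r, 1 - r⟩ : ℤ × ℤ)) 1 where
  deg pq := pq.1 + pq.2
  i₀ r pq hr := (-pq.1 - r + 1 :)
  i₁ pq := (-pq.1 :)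
  i₂ pq := (-pq.1 + 1 :)
  i₃ r pq hr := (-pq.1 + r :)
  le₀₁ r pq hr := cle (by omega)
  le₁₂ pq := cle (by omega)
  le₂₃ r pq hr := cle (by omega)
  hc := by rintro r pq _ rfl _; dsimp; omega
  hc₀₂ := by rintro r pq _ rfl _; exact congrArg WithBotTop.coe (by dsimp; omega)
  hc₁₃ := by rintro r pq _ rfl _; exact congrArg WithBotTop.coe (by dsimp; omega)
  antitone_i₀ r r' pq hr hrr' := cle (by omega)
  monotone_i₃ r r' pq hr hrr' := cle (by omega)
  i₀_prev := by rintro r r' pq _ rfl _ _; exact congrArg WithBotTop.coe (by dsimp; omega)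
  i₃_next := by rintro r r' pq _ rfl _ _; exact congrArg WithBotTop.coe (by dsimp; omega)

instance : core.HasFirstPageComputation where
  hi₀₁ pq := congrArg WithBotTop.coe (by omega)
  hi₂₃ pq := congrArg WithBotTop.coe (by omega)

instance (X : Abelian.SpectralObject AddCommGrpCat.{u} EInt) :
    X.HasSpectralSequence core where
  isZero_H_obj_mk₁_i₀_le r r' pq hpq n hn hrr' hr := by
    exfalso
    exact hpq _ rfl
  isZero_H_obj_mk₁_i₃_le r r' pq hpq n hn hrr' hr := by
    exfalso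
    exact hpq (pq - (r, 1 - r)) (by simp)

/-- Cap the indices at `1`. -/
noncomputable def cap : EInt →o EInt := ⟨fun i => min i ((1 : ℤ) : EInt), fun _ _ h => min_le_min_right _ h⟩

variable (D : Dbl.{u})

lemma isZero_band {i j : EInt} {n : ℤ}
    (h : ∀ p q : ℤ, p + q = n → Mem i j p → IsZero ((D.X p).X q)) :
    IsZero ((band D i j).homology n) := by
  refine HomologicalComplex.ExactAt.isZero_homology (ShortComplex.exact_of_isZero_X₂ _ ?_)
  refine @AddCommGrpCat.isZero_of_subsingleton (AddCommGrpCat.of (Supp D i j n)) ⟨fun x y => ?_⟩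
  apply Subtype.ext
  refine W.ext fun p q hpq => ?_
  by_cases hp : Mem i j p
  · have := AddCommGrpCat.subsingleton_of_isZero (h p q hpq hp)
    exact Subsingleton.elim _ _
  · exact (x.2 p q hpq hp).trans (y.2 p q hpq hp).symm

variable (hp : ∀ p, p < -1 → IsZero (D.X p)) (hq : ∀ p q, q < 0 → IsZero ((D.X p).X q))

lemma cap_int (a : ℤ) (h : a ≤ 1) : cap (a : EInt) = (a : EInt) := min_eq_left (cle h)

lemma cap_of_le {i : EInt} (h : ((1 : ℤ) : EInt) ≤ i) : cap i = ((1 : ℤ) : EInt) := min_eq_right h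

lemma isZero_of_one_le {i j : EInt} (hij : i ≤ j) (h : ((1 : ℤ) : EInt) ≤ i) (n : ℤ) :
    IsZero (Hij (spObj D cap) n hij) := by
  refine isZero_band D fun p q _ hm => absurd hm ?_
  rintro ⟨h1, h2⟩
  change cap i ≤ _ at h1
  change _ < cap j at h2
  rw [cap_of_le h] at h1
  rw [cap_of_le (h.trans hij)] at h2
  exact absurd (lt_of_le_of_lt h1 h2) (lt_irrefl _)

include hq in
lemma isZero_of_le_neg {i j : EInt} (hij : i ≤ j) (n : ℤ) (h : j ≤ ((-n : ℤ) : EInt)) :
    IsZero (Hij (spObj D cap) n hij) := by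
  refine isZero_band D fun p q hpq hm => hq p q ?_
  have h2 : ((-p : ℤ) : EInt) < ((-n : ℤ) : EInt) :=
    lt_of_lt_of_le hm.2 ((min_le_left _ _).trans h)
  have h3 : -p < -n := by simpa using h2
  omega

open Classical in
/-- A band with a single column is a shifted column. -/
noncomputable def singleColIso {i j : EInt} (p₀ : ℤ) (h₀ : Mem i j p₀)
    (h : ∀ p, p ≠ p₀ → Mem i j p → IsZero (D.X p)) :
    band D i j ≅ (D.X p₀)⟦(-p₀ : ℤ)⟧ := by
  have hsub : ∀ n (x y : Supp D i j n), x.1.at p₀ (n + -p₀) (by omega) = y.1.at p₀ (n + -p₀) (by omega) →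
      x = y := fun n x y e => by
    apply Subtype.ext
    refine W.ext fun p q hpq => ?_
    by_cases hm : Mem i j p
    · by_cases hpp : p = p₀
      · subst hpp
        obtain rfl : q = n + -p := by omega
        exact e
      · have := AddCommGrpCat.subsingleton_of_isZero
          ((HomologicalComplex.eval AddCommGrpCat.{u} (ComplexShape.up ℤ) q).map_isZero (h p hpp hm))
        exact @Subsingleton.elim _ this _ _
    · exact (x.2 p q hpq hm).trans (y.2 p q hpq hm).symm
  let ev : ∀ n, (band D i j).X n ⟶ ((D.X p₀)⟦(-p₀ : ℤ)⟧).X n := fun n =>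
    AddCommGrpCat.ofHom (X := Supp D i j n) (Y := (D.X p₀).X (n + -p₀))
      { toFun := fun x => x.1.at p₀ (n + -p₀) (by omega)
        map_zero' := rfl
        map_add' := fun _ _ => rfl }
  have hev : ∀ n, IsIso (ev n) := fun n => by
    refine (ConcreteCategory.isIso_iff_bijective _).2 ⟨fun x y e => hsub n x y e, fun z => ?_⟩
    refine ⟨⟨fun k => if e : k.1 = (p₀, n + -p₀) then e ▸ (z : (D.X p₀).X (n + -p₀)) else 0,
      fun p q hpq hm => ?_⟩, ?_⟩
    · show dite _ _ _ = 0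
      rw [dif_neg]
      intro e
      have e' : p = p₀ := (Prod.ext_iff.1 e).1
      exact hm (by rw [e']; exact h₀)
    · show dite _ _ _ = z
      rw [dif_pos rfl]
  refine HomologicalComplex.Hom.isoOfComponents (fun n => @asIso _ _ _ _ (ev n) (hev n)) ?_
  intro n m hnm
  obtain rfl : n + 1 = m := hnm
  refine AddCommGrpCat.ext fun x => ?_
  show (((D.X p₀)⟦(-p₀ : ℤ)⟧).d n (n + 1)).hom ((ev n).hom x) =
    (((band D i j).d n (n + 1)).hom x : Supp D i j (n + 1)).1.at p₀ (n + 1 + -p₀) (by omega)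
  rw [band_d, ind_pos D _ _ h₀, dT_apply]
  have e1 : ∀ (hh : p₀ - 1 + (n + 1 + -p₀) = n), ((D.d (p₀ - 1) p₀).f (n + 1 + -p₀)).hom
      ((x : Supp D i j n).1.at (p₀ - 1) (n + 1 + -p₀) hh) = 0 := fun hh => by
    by_cases hm : Mem i j (p₀ - 1)
    · have := AddCommGrpCat.subsingleton_of_isZero
        ((HomologicalComplex.eval AddCommGrpCat.{u} (ComplexShape.up ℤ) (n + 1 + -p₀)).map_isZero
          (h _ (by omega) hm))
      rw [@Subsingleton.elim _ this ((x : Supp D i j n).1.at (p₀ - 1) (n + 1 + -p₀) hh) 0]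
      exact map_zero _
    · rw [(x : Supp D i j n).2 _ _ hh hm]
      exact map_zero _
  rw [e1, zero_add, CochainComplex.shiftFunctor_obj_d']
  have key : ∀ (a : ℤ) (hh : p₀ + a = n) (_ : a = n + -p₀),
      sgn p₀ • ((D.X p₀).d a (n + 1 + -p₀)).hom ((x : Supp D i j n).1.at p₀ a hh) =
      sgn p₀ • ((D.X p₀).d (n + -p₀) (n + 1 + -p₀)).hom
        ((x : Supp D i j n).1.at p₀ (n + -p₀) (by omega)) := by
    rintro a hh rfl
    rfl
  rw [key _ _ (by omega)]
  have hs : ((-p₀).negOnePow : ℤ) = sgn p₀ := by rw [Int.negOnePow_neg]; rfl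
  rw [← hs]
  rfl

include hq in
/-- A total complex with exact rows is acyclic. -/
lemma isZero_total (hp : ∀ p, p < -1 → IsZero (D.X p))
    (hrow : ∀ p q (x : (D.X p).X q), ((D.d p (p + 1)).f q).hom x = 0 →
      ∃ y : (D.X (p - 1)).X q, ((D.d (p - 1) p).f q).hom y = x) (n : ℤ) :
    IsZero ((band D ⊥ ⊤).homology n) := by
  classical
  refine HomologicalComplex.ExactAt.isZero_homology ?_
  rw [HomologicalComplex.exactAt_iff' _ (n - 1) n (n + 1) (by simp) (by simp),
    ShortComplex.ab_exact_iff]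
  intro (x : Supp D ⊥ ⊤ n) hx
  change ((band D ⊥ ⊤).d n (n + 1)).hom x = 0 at hx
  obtain ⟨m, rfl⟩ : ∃ m, n = m + 1 := ⟨n - 1, by omega⟩
  have hmem : ∀ p, Mem (⊥ : EInt) ⊤ p := fun p => ⟨bot_le, by exact (lt_top_iff_ne_top.2 (WithBotTop.coe_ne_top _))⟩
  have key : ∀ k : ℕ, ∃ y : W D m, ∀ p q (h : p + q = m + 1), (m + 1) - k < p →
      (x.1 - dT D m y).at p q h = 0 := by
    intro k
    induction k with
    | zero =>
      refine ⟨0, fun p q h hpk => ?_⟩
      have := AddCommGrpCat.subsingleton_of_isZero (hq p q (by omega))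
      exact Subsingleton.elim _ _
    | succ k ih =>
      obtain ⟨y, hy⟩ := ih
      set z := x.1 - dT D m y with hz
      have hdz : dT D (m + 1) z = 0 := by
        rw [hz, map_sub, dT_dT, sub_zero]
        refine W.ext fun p q h => ?_
        have := congrArg (fun w : Supp D ⊥ ⊤ (m + 1 + 1) => w.1.at p q h)
          ((band_d D ⊥ ⊤ (m + 1) x).symm.trans hx)
        rw [ind_pos D _ h (hmem p)] at this
        exact this
      let p₀ : ℤ := m + 1 - k
      have h0 : ((D.d p₀ (p₀ + 1)).f (k : ℤ)).hom (z.at p₀ k (by omega)) = 0 := by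
        have := congrArg (fun w : W D (m + 1 + 1) => w.at (p₀ + 1) k (by omega)) hdz
        rw [dT_apply] at this
        have e2 : z.at (p₀ + 1) ((k : ℤ) - 1) (by omega) = 0 := hy _ _ _ (by omega)
        rw [e2, map_zero, smul_zero, add_zero] at this
        have key : ∀ (a : ℤ) (_ : a = p₀) (hh : a + (k : ℤ) = m + 1),
            ((D.d a (p₀ + 1)).f (k : ℤ)).hom (z.at a k hh) =
              ((D.d p₀ (p₀ + 1)).f (k : ℤ)).hom (z.at p₀ k (by omega)) := by
          rintro a rfl hh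
          rfl
        exact (key _ (by omega) _).symm.trans this
      obtain ⟨w, hw⟩ := hrow p₀ k _ h0
      let w' : W D m := fun i => if e : i.1 = (p₀ - 1, (k : ℤ)) then e ▸ w else 0
      have hw' : ∀ h, w'.at (p₀ - 1) k h = w := fun h => by
        show dite _ _ _ = w
        rw [dif_pos rfl]
      have hw0 : ∀ p q h, p ≠ p₀ - 1 → w'.at p q h = 0 := fun p q h hne => by
        show dite _ _ _ = 0
        rw [dif_neg fun e => hne (Prod.ext_iff.1 e).1]
      refine ⟨y + w', fun p q h hpk => ?_⟩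
      have e : x.1 - dT D m (y + w') = z - dT D m w' := by rw [map_add, hz]; abel
      rw [e]
      show z.at p q h - (dT D m w').at p q h = 0
      rw [dT_apply]
      by_cases hpp : p = p₀
      · subst hpp
        obtain rfl : q = k := by omega
        rw [hw', hw, hw0 p₀ _ _ (by omega), map_zero, smul_zero, add_zero, sub_self]
      · rw [hy p q h (by omega), hw0 (p - 1) _ _ (by omega), hw0 p _ _ (by omega), map_zero,
          map_zero, smul_zero, add_zero, sub_zero]
  obtain ⟨y, hy⟩ := key (m + 1 + 2).toNat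
  have hy' : x.1 = dT D m y := sub_eq_zero.1 <| W.ext fun p q h => by
    by_cases hpp : p < -1
    · have := AddCommGrpCat.subsingleton_of_isZero
        ((HomologicalComplex.eval AddCommGrpCat.{u} (ComplexShape.up ℤ) q).map_isZero (hp p hpp))
      exact @Subsingleton.elim _ this _ _
    · exact hy p q h (by omega)
  have : ∀ (a : ℤ) (_ : a = m), ∃ w, ((band D ⊥ ⊤).d a (m + 1)).hom w = x := by
    rintro a rfl
    refine ⟨ind D ⊥ ⊤ a y, ?_⟩
    rw [band_d]
    have : (ind D ⊥ ⊤ a y).1 = y := W.ext fun p q h => ind_pos D _ h (hmem p)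
    rw [this, ← hy']
    exact ind_self D x
  exact this (m + 1 - 1) (by omega)

section

variable {H : ℤ → AddCommGrpCat.{u}}
  (e : ∀ n : ℤ, Hij (spObj D cap) n (bot_le : (⊥ : EInt) ≤ ⊤) ≅ H n)

/-- The spectral sequence. -/
noncomputable abbrev ss : CohomologicalSpectralSequence AddCommGrpCat.{u} 1 :=
  (spObj D cap).spectralSequence core

/-- The filtration. -/
noncomputable def filt (n p : ℤ) : Subobject (H n) := SpAbutment.fil (spObj D cap) e n (n + p)

lemma filt_anti (n : ℤ) : Antitone (filt D e n) :=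
  fun _ _ h => SpAbutment.fil_anti (spObj D cap) e n (add_le_add_right h n)

/-- A page from which a position is stationary. -/
def rk (pq : ℤ × ℤ) : ℤ := max 1 (max (pq.2 + 3) (pq.1 + 1))

lemma isZero_page_p (r : ℤ) (hr : 1 ≤ r) (pq : ℤ × ℤ) (h : pq.1 < 0) :
    IsZero (((ss D).page r hr).X pq) :=
  isZero_spectralSequence_page_X_of_isZero_H' _ _ _ hr _
    (isZero_of_one_le D _ (cle (by omega)) _)

include hq in
lemma isZero_page_q (r : ℤ) (hr : 1 ≤ r) (pq : ℤ × ℤ) (h : pq.2 < 0) :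
    IsZero (((ss D).page r hr).X pq) :=
  isZero_spectralSequence_page_X_of_isZero_H' _ _ _ hr _
    (isZero_of_le_neg D hq _ _ (cle (by show -pq.1 + 1 ≤ -(pq.1 + pq.2); omega)))

include hq in
lemma stat (pq : ℤ × ℤ) : SpSeq.StationaryAt (ss D) pq (rk pq) := by
  refine ⟨le_max_left _ _, fun r hr hr' => ⟨?_, ?_⟩⟩
  · exact (isZero_page_p D r hr _ (by
      have : pq.1 + 1 ≤ r := (le_max_right _ _).trans ((le_max_right _ _).trans hr')
      simp only [Prod.fst_sub]; omega)).eq_of_src _ _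
  · exact (isZero_page_q D hq r hr _ (by
      have : pq.2 + 3 ≤ r := (le_max_left _ _).trans ((le_max_right _ _).trans hr')
      simp only [Prod.snd_add]; omega)).eq_of_tgt _ _

/-- The value at infinity. -/
noncomputable def infIso (n : ℤ) {i₀ i₁ i₂ i₃ : EInt} (h₀₁ : i₀ ≤ i₁) (h₁₂ : i₁ ≤ i₂)
    (h₂₃ : i₂ ≤ i₃) (h₀ : i₀ ≤ ((-(n + 1 + 1) : ℤ) : EInt)) (h₃ : ((1 : ℤ) : EInt) ≤ i₃)
    (hq : ∀ p q, q < 0 → IsZero ((D.X p).X q)) :
    (spObj D cap).E (homOfLE h₀₁) (homOfLE h₁₂) (homOfLE h₂₃) (n - 1) n (n + 1) ≅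
      (spObj D cap).E (homOfLE (bot_le : ⊥ ≤ i₁)) (homOfLE h₁₂) (homOfLE (le_top : i₂ ≤ ⊤))
        (n - 1) n (n + 1) := by
  let X := spObj D cap
  let α : mk₃ (homOfLE (bot_le : ⊥ ≤ i₁)) (homOfLE h₁₂) (homOfLE h₂₃) ⟶
      mk₃ (homOfLE h₀₁) (homOfLE h₁₂) (homOfLE h₂₃) :=
    homMk₃ (homOfLE bot_le) (homOfLE le_rfl) (homOfLE le_rfl) (homOfLE le_rfl)
      (Subsingleton.elim _ _) (Subsingleton.elim _ _) (Subsingleton.elim _ _)
  let β : mk₃ (homOfLE (bot_le : ⊥ ≤ i₁)) (homOfLE h₁₂) (homOfLE h₂₃) ⟶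
      mk₃ (homOfLE (bot_le : ⊥ ≤ i₁)) (homOfLE h₁₂) (homOfLE (le_top : i₂ ≤ ⊤)) :=
    homMk₃ (homOfLE le_rfl) (homOfLE le_rfl) (homOfLE le_rfl) (homOfLE le_top)
      (Subsingleton.elim _ _) (Subsingleton.elim _ _) (Subsingleton.elim _ _)
  have z₀ : ∀ m ≤ n + 1 + 1, IsZero (Hij X m (bot_le : ⊥ ≤ i₀)) := fun m hm =>
    isZero_of_le_neg D hq _ _ (h₀.trans (cle (by omega)))
  have : IsIso (X.map _ _ _ _ _ _ α (n - 1) n (n + 1)) := by
    refine X.isIso_map _ _ _ _ _ _ α (n - 1) n (n + 1) ?_ ?_ ?_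
    · exact isIso_map_of_isIso X _ h₂₃ h₂₃ rfl rfl _
    · exact isIso_map_of_isIso X _ h₁₂ h₁₂ rfl rfl _
    · exact isIso_map_left X _ bot_le h₀₁ (z₀ _ (by omega)) (z₀ _ le_rfl) _
  have : IsIso (X.map _ _ _ _ _ _ β (n - 1) n (n + 1)) := by
    refine X.isIso_map _ _ _ _ _ _ β (n - 1) n (n + 1) ?_ ?_ ?_
    · exact isIso_map_right X _ h₂₃ le_top (isZero_of_one_le D _ h₃ _) (isZero_of_one_le D _ h₃ _) _
    · exact isIso_map_of_isIso X _ h₁₂ h₁₂ rfl rfl _
    · exact isIso_map_of_isIso X _ bot_le bot_le rfl rfl _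
  let a := asIso (X.map _ _ _ _ _ _ α (n - 1) n (n + 1) (Int.sub_add_cancel n 1) rfl)
  let b := asIso (X.map _ _ _ _ _ _ β (n - 1) n (n + 1) (Int.sub_add_cancel n 1) rfl)
  exact a.symm ≪≫ b

/-- The stationary value is the graded piece. -/
noncomputable def βIso (hq : ∀ p q, q < 0 → IsZero ((D.X p).X q)) (pq : ℤ × ℤ) :
    ((ss D).page (rk pq) (le_max_left _ _)).X pq ≅
      SpSeq.grPiece (filt D e (pq.1 + pq.2)) (filt_anti D e _) pq.1 :=
  have h1 : pq.2 + 3 ≤ rk pq := (le_max_left _ _).trans (le_max_right _ _)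
  have h2 : pq.1 + 1 ≤ rk pq := (le_max_right _ _).trans (le_max_right _ _)
  let n := pq.1 + pq.2
  (spObj D cap).spectralSequencePageXIso core (rk pq) (le_max_left _ _) pq
      ((-pq.1 - rk pq + 1 : ℤ) : EInt) ((n - (n + pq.1 + 1) + 1 : ℤ) : EInt)
      ((n - (n + pq.1) + 1 : ℤ) : EInt) ((-pq.1 + rk pq : ℤ) : EInt)
      rfl (congrArg WithBotTop.coe (by omega)) (congrArg WithBotTop.coe (by omega)) rfl
      (n - 1) n (n + 1) rfl ≪≫
    infIso D n _ _ _ (cle (by omega)) (cle (by omega)) hq ≪≫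
    SpAbutment.EIsoGr (spObj D cap) e n (n + pq.1) ≪≫
    eqToIso (by dsimp only [SpSeq.grPiece, filt, n]; simp only [add_assoc])

/-- The abutment. -/
noncomputable def abutment (hq : ∀ p q, q < 0 → IsZero ((D.X p).X q)) :
    SpSeq.Abutment (ss D) H where
  fil := filt D e
  anti := filt_anti D e
  rk := rk
  stat := stat D hq
  β := βIso D e hq

end

/-- **The `E₁` spectral sequence of a double complex with exact rows.** -/
theorem exists_spectralSequence (D : Dbl.{u}) (hp : ∀ p, p < -1 → IsZero (D.X p))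
    (hq : ∀ p q, q < 0 → IsZero ((D.X p).X q))
    (hrow : ∀ p q (x : (D.X p).X q), ((D.d p (p + 1)).f q).hom x = 0 →
      ∃ y : (D.X (p - 1)).X q, ((D.d (p - 1) p).f q).hom y = x)
    (E₁ : ℤ → ℤ → AddCommGrpCat.{u}) (H : ℤ → AddCommGrpCat.{u})
    (he : ∀ p q : ℤ, 0 ≤ p → 0 ≤ q → Nonempty ((D.X p).homology q ≅ E₁ p q))
    (hz : ∀ p q : ℤ, ¬ (0 ≤ p ∧ 0 ≤ q) → IsZero (E₁ p q))
    (hH : ∀ n : ℤ, Nonempty ((D.X (-1)).homology n ≅ H n)) :
    ∃ (E : CohomologicalSpectralSequence AddCommGrpCat.{u} 1) (a : SpSeq.Abutment E H),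
      (∀ n, a.IsFinite n) ∧ SpSeq.IsBounded E ∧
      ∀ p q : ℤ, Nonempty ((E.page 1 le_rfl).X (p, q) ≅ E₁ p q) := by
  have e : ∀ n : ℤ, Hij (spObj D cap) n (bot_le : (⊥ : EInt) ≤ ⊤) ≅ H n := fun n => by
    have hc : cap (⊥ : EInt) = ⊥ := show min (⊥ : EInt) _ = ⊥ from min_eq_left bot_le
    have hc' : cap (⊤ : EInt) = ((1 : ℤ) : EInt) := cap_of_le le_top
    refine eqToIso (show Hij (spObj D cap) n bot_le = (band D ⊥ ((1 : ℤ) : EInt)).homology n by
      show (band D (cap ⊥) (cap ⊤)).homology n = _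
      rw [hc, hc']) ≪≫ ?_ ≪≫ (hH n).some
    have hS := shortExact_bandSeq D ⊥ ((1 : ℤ) : EInt) ⊤ bot_le le_top
    have := hS.isIso_δ (n - 1) n (by simp) (isZero_total D hq hp hrow _) (isZero_total D hq hp hrow _)
    refine (asIso (hS.δ (n - 1) n (sub_add_cancel n 1))).symm ≪≫
      (HomologicalComplex.homologyFunctor _ _ (n - 1)).mapIso
        (singleColIso D (-1) ⟨cle (by norm_num), (lt_top_iff_ne_top.2 (WithBotTop.coe_ne_top _))⟩ fun p hne hm => hp p ?_) ≪≫
      ((HomologicalComplex.homologyFunctor AddCommGrpCat.{u} (ComplexShape.up ℤ) 0).shiftIso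
        (-(-1) : ℤ) (n - 1) n (by omega)).app _
    have : (1 : ℤ) ≤ -p := by simpa [bandSeq] using hm.1
    omega
  refine ⟨ss D, abutment D e hq, fun n => ⟨⟨0, ?_⟩, ⟨n + 1, ?_⟩⟩, fun n => ?_, fun p q => ?_⟩
  · show filt D e n 0 = ⊤
    have h0 : Epi (toAb (spObj D cap) e n (n - (n + 0) + 1)) := by
      have : Epi (Hmap (spObj D cap) n (bot_le : (⊥ : EInt) ≤ ((n - (n + 0) + 1 : ℤ) : EInt))
          (bot_le : (⊥ : EInt) ≤ ⊤) le_rfl le_top) := by
        rw [Hmap, SpAbutment.hom_eq (homMk₁ _ _ _)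
          (twoδ₂Toδ₁ (homOfLE bot_le) (homOfLE le_top) _ (homOfLE_comp _ _))]
        exact ((spObj D cap).exact₂ _ _ _ _ n).epi_f
          ((isZero_of_one_le D _ (cle (by omega)) n).eq_of_tgt _ _)
      unfold toAb; infer_instance
    have : Epi (imageSubobject (toAb (spObj D cap) e n (n - (n + 0) + 1))).arrow :=
      epi_of_epi_fac (imageSubobject_arrow_comp _)
    have : IsIso (imageSubobject (toAb (spObj D cap) e n (n - (n + 0) + 1))).arrow :=
      isIso_of_mono_of_epi _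
    exact @Subobject.eq_top_of_isIso_arrow _ _ _ _ this
  · show filt D e n (n + 1) = ⊥
    have : toAb (spObj D cap) e n (n - (n + (n + 1)) + 1) = 0 :=
      (isZero_of_le_neg D hq _ n (cle (by omega))).eq_of_src _ _
    simp only [filt, SpAbutment.fil, this, imageSubobject_zero]
  · refine (Set.finite_Icc (0 : ℤ) n).subset fun p hp' => ?_
    by_contra h
    simp only [Set.mem_Icc, not_and_or, not_le] at h
    rcases h with h | h
    · exact hp' (isZero_page_p D 1 le_rfl _ h)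
    · exact hp' (isZero_page_q D hq 1 le_rfl _ (by dsimp; omega))
  · by_cases h : 0 ≤ p ∧ 0 ≤ q
    · have h1 : cap ((-p : ℤ) : EInt) = ((-p : ℤ) : EInt) := cap_int _ (by omega)
      have h2 : cap ((-p + 1 : ℤ) : EInt) = ((-p + 1 : ℤ) : EInt) := cap_int _ (by omega)
      have hm : Mem (cap ((-p : ℤ) : EInt)) (cap ((-p + 1 : ℤ) : EInt)) p := by
        rw [h1, h2]; exact ⟨le_rfl, by simp⟩
      refine ⟨(spObj D cap).spectralSequenceFirstPageXIso core (p, q) _ _ rfl rfl (p + q) rfl ≪≫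
        (HomologicalComplex.homologyFunctor _ _ (p + q)).mapIso
          (singleColIso D p hm fun p' hne hm' => absurd ?_ hne) ≪≫
        ((HomologicalComplex.homologyFunctor AddCommGrpCat.{u} (ComplexShape.up ℤ) 0).shiftIso
          (-p) (p + q) q (by omega)).app _ ≪≫ (he p q h.1 h.2).some⟩
      have h3 : ((-p : ℤ) : EInt) ≤ ((-p' : ℤ) : EInt) := h1 ▸ hm'.1
      have h4 : ((-p' : ℤ) : EInt) < ((-p + 1 : ℤ) : EInt) := h2 ▸ hm'.2
      have h5 : -p ≤ -p' := by simpa using h3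
      have h6 : -p' < -p + 1 := by simpa using h4
      omega
    · refine ⟨IsZero.iso ?_ (hz p q h)⟩
      rw [not_and_or, not_le, not_le] at h
      rcases h with h | h
      · exact isZero_page_p D 1 le_rfl _ h
      · exact isZero_page_q D hq 1 le_rfl _ h

end Groth.Agent.H15Site.DoubleSS
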