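import Mathlib.Algebra.Category.Grp.Abelian
import Mathlib.Algebra.Homology.SpectralObject.Basic
import Mathlib.Algebra.Homology.HomologySequenceLemmas
import Mathlib.Algebra.Homology.HomologicalComplexAbelian
import Mathlib.Algebra.Homology.ShortComplex.Ab
import Mathlib.Algebra.Ring.NegOnePow
import Mathlib.Order.WithBotTop

/-!
# Bands of double complexes of abelian groups

For a double complex `D` the band `[i, j)` is the subquotient of the total complex (formed with
products) made of the columns `p` with `i ≤ -p < j`; the bands form a spectral object.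
-/

set_option autoImplicit false
set_option linter.style.haveILetI false
set_option linter.unusedSectionVars false
set_option backward.isDefEq.respectTransparency false

universe u

open CategoryTheory CategoryTheory.Limits CategoryTheory.ComposableArrows

namespace Groth.Agent.H15Site.DoubleSS

/-- Double complexes of abelian groups. -/
abbrev Dbl : Type (u + 1) := CochainComplex (CochainComplex AddCommGrpCat.{u} ℤ) ℤ

variable (D : Dbl.{u})

/-- Families of components of total degree `n`. -/
abbrev W (n : ℤ) : Type u := ∀ i : {i : ℤ × ℤ // i.1 + i.2 = n}, (D.X i.1.1).X i.1.2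

/-- The component at `(p, q)`. -/
abbrev W.at {D : Dbl.{u}} {n : ℤ} (x : W D n) (p q : ℤ) (h : p + q = n) : (D.X p).X q := x ⟨(p, q), h⟩

theorem W.ext {D : Dbl.{u}} {n : ℤ} {x y : W D n} (h : ∀ p q h, x.at p q h = y.at p q h) : x = y :=
  funext fun i => h i.1.1 i.1.2 i.2

/-- The sign. -/
def sgn (p : ℤ) : ℤ := (p.negOnePow : ℤ)

lemma sgn_pred (p : ℤ) : sgn (p - 1) = - sgn p := by
  have h := congrArg (fun v : ℤˣ => (v : ℤ)) (Int.negOnePow_succ (p - 1))
  rw [sub_add_cancel] at h
  simp only [Units.val_neg] at h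
  unfold sgn
  omega

/-- The total differential. -/
noncomputable def dT (n : ℤ) : W D n →+ W D (n + 1) where
  toFun x i := ((D.d (i.1.1 - 1) i.1.1).f i.1.2).hom
      (x.at (i.1.1 - 1) i.1.2 (by have := i.2; omega)) +
    sgn i.1.1 • ((D.X i.1.1).d (i.1.2 - 1) i.1.2).hom
      (x.at i.1.1 (i.1.2 - 1) (by have := i.2; omega))
  map_zero' := by funext i; simp
  map_add' x y := by
    funext i
    simp only [Pi.add_apply, W.at, map_add, smul_add]
    abel

lemma dT_apply (n : ℤ) (x : W D n) (p q : ℤ) (h : p + q = n + 1) :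
    (dT D n x).at p q h = ((D.d (p - 1) p).f q).hom (x.at (p - 1) q (by omega)) +
      sgn p • ((D.X p).d (q - 1) q).hom (x.at p (q - 1) (by omega)) := rfl

theorem dT_dT (n : ℤ) (x : W D n) : dT D (n + 1) (dT D n x) = 0 := by
  refine W.ext fun p q h => ?_
  have h1 : ∀ z, ((D.d (p - 1) p).f q).hom (((D.d (p - 1 - 1) (p - 1)).f q).hom z) = 0 := fun z => by
    exact ConcreteCategory.congr_hom (congrArg (fun f => HomologicalComplex.Hom.f f q)
      (D.d_comp_d (p - 1 - 1) (p - 1) p)) z
  have h2 : ∀ z, ((D.X p).d (q - 1) q).hom (((D.X p).d (q - 1 - 1) (q - 1)).hom z) = 0 := fun z => by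
    exact ConcreteCategory.congr_hom ((D.X p).d_comp_d (q - 1 - 1) (q - 1) q) z
  have h3 : ∀ z, ((D.X p).d (q - 1) q).hom (((D.d (p - 1) p).f (q - 1)).hom z) =
      ((D.d (p - 1) p).f q).hom (((D.X (p - 1)).d (q - 1) q).hom z) := fun z =>
    ConcreteCategory.congr_hom ((D.d (p - 1) p).comm (q - 1) q) z
  show (dT D (n + 1) (dT D n x)).at p q h = 0
  rw [dT_apply, dT_apply, dT_apply, map_add, map_add, map_zsmul, map_zsmul, h1, h2, h3, sgn_pred,
    zero_add, smul_zero, add_zero, neg_smul]
  exact neg_add_cancel _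

lemma cle {a b : ℤ} (h : a ≤ b) : (a : EInt) ≤ (b : EInt) := by simpa using h

/-- The column `p` lies in the band. -/
def Mem (i j : EInt) (p : ℤ) : Prop := i ≤ ((-p : ℤ) : EInt) ∧ ((-p : ℤ) : EInt) < j

/-- Families supported in the band. -/
def Supp (i j : EInt) (n : ℤ) : AddSubgroup (W D n) where
  carrier := {x | ∀ p q h, ¬ Mem i j p → x.at p q h = 0}
  zero_mem' _ _ _ _ := rfl
  add_mem' ha hb p q h hp := by
    show _ + _ = (0 : ((D.X p).X q : Type u))
    exact (congrArg₂ (· + ·) (ha p q h hp) (hb p q h hp)).trans (add_zero _)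
  neg_mem' ha p q h hp := by
    show - _ = (0 : ((D.X p).X q : Type u))
    exact (congrArg Neg.neg (ha p q h hp)).trans neg_zero

open Classical in
/-- Cut down to the band. -/
noncomputable def ind (i j : EInt) (n : ℤ) : W D n →+ Supp D i j n where
  toFun x := ⟨fun k => if Mem i j k.1.1 then x k else 0, fun p q h hp => if_neg hp⟩
  map_zero' := Subtype.ext (funext fun k => by
    show (if Mem i j k.1.1 then (0 : ((D.X k.1.1).X k.1.2 : Type u)) else 0) = 0
    exact ite_self _)
  map_add' x y := Subtype.ext (funext fun k => by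
    show (if Mem i j k.1.1 then x k + y k else 0) =
      (if Mem i j k.1.1 then x k else 0) + (if Mem i j k.1.1 then y k else 0)
    split <;> simp)

lemma ind_pos {i j : EInt} {n : ℤ} (x : W D n) {p q : ℤ} (h : p + q = n) (hp : Mem i j p) :
    (ind D i j n x).1.at p q h = x.at p q h := if_pos hp

lemma ind_neg {i j : EInt} {n : ℤ} (x : W D n) {p q : ℤ} (h : p + q = n) (hp : ¬ Mem i j p) :
    (ind D i j n x).1.at p q h = 0 := if_neg hp

lemma ind_self {i j : EInt} {n : ℤ} (x : Supp D i j n) : ind D i j n x.1 = x := by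
  apply Subtype.ext
  refine W.ext fun p q h => ?_
  by_cases hp : Mem i j p
  · exact ind_pos D _ h hp
  · rw [ind_neg D _ h hp]; exact (x.2 p q h hp).symm

/-- The band complex. -/
noncomputable def band (i j : EInt) : CochainComplex AddCommGrpCat.{u} ℤ :=
  CochainComplex.of (fun n => AddCommGrpCat.of (Supp D i j n))
    (fun n => AddCommGrpCat.ofHom
      ((ind D i j (n + 1)).comp ((dT D n).comp (Supp D i j n).subtype)))
    (fun n => by
      refine AddCommGrpCat.ext fun x => ?_
      show ind D i j (n + 1 + 1) (dT D (n + 1) (ind D i j (n + 1) (dT D n x.1)).1) = 0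
      apply Subtype.ext
      refine W.ext fun p q h => ?_
      by_cases hp : Mem i j p
      · rw [ind_pos D _ h hp, dT_apply, ind_pos D _ _ hp]
        refine Eq.trans ?_ (congrArg (fun z => W.at z p q h) (dT_dT D n x.1))
        rw [dT_apply D (n + 1)]
        congr 2
        by_cases hp' : Mem i j (p - 1)
        · exact ind_pos D _ _ hp'
        · rw [ind_neg D _ _ hp', dT_apply]
          have hp'' : ¬ Mem i j (p - 1 - 1) := by
            intro hc
            refine hp' ⟨hp.1.trans (cle (by omega)), lt_of_le_of_lt (cle (by omega)) hc.2⟩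
          rw [x.2 _ _ _ hp', x.2 _ _ _ hp'', map_zero, map_zero, smul_zero, add_zero]
      · exact ind_neg D _ h hp)

lemma band_d (i j : EInt) (n : ℤ) (x : Supp D i j n) :
    ((band D i j).d n (n + 1)).hom x = ind D i j (n + 1) (dT D n x.1) := by
  exact ConcreteCategory.congr_hom (CochainComplex.of_d (fun n => AddCommGrpCat.of (Supp D i j n))
    (fun n => AddCommGrpCat.ofHom ((ind D i j (n + 1)).comp ((dT D n).comp (Supp D i j n).subtype))) n) x

lemma ind_dT_ind {i j i' j' : EInt} (hi : i ≤ i') (hj : j ≤ j') {n : ℤ} (x : Supp D i j n) :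
    ind D i' j' (n + 1) (dT D n (ind D i' j' n x.1).1) =
      ind D i' j' (n + 1) (ind D i j (n + 1) (dT D n x.1)).1 := by
  apply Subtype.ext
  refine W.ext fun p q h => ?_
  by_cases hp : Mem i' j' p
  · rw [ind_pos D _ h hp, ind_pos D _ h hp, dT_apply, ind_pos D _ _ hp]
    have e1 : (ind D i' j' n x.1).1.at (p - 1) q (by omega) = x.1.at (p - 1) q (by omega) := by
      by_cases hp' : Mem i' j' (p - 1)
      · exact ind_pos D _ _ hp'
      · rw [ind_neg D _ _ hp']
        refine (x.2 _ _ _ fun hc => hp' ⟨hp.1.trans (cle (by omega)), lt_of_lt_of_le hc.2 hj⟩).symm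
    rw [e1]
    by_cases hp₀ : Mem i j p
    · rw [ind_pos D _ h hp₀, dT_apply]
    · rw [ind_neg D _ h hp₀]
      have hp₀' : ¬ Mem i j (p - 1) := fun hc =>
        hp₀ ⟨hi.trans hp.1, lt_of_le_of_lt (cle (by omega)) hc.2⟩
      rw [x.2 _ _ _ hp₀, x.2 _ _ _ hp₀', map_zero, map_zero, smul_zero, add_zero]
  · rw [ind_neg D _ h hp, ind_neg D _ h hp]

/-- The maps of bands. -/
noncomputable def bandMap (i j i' j' : EInt) (hi : i ≤ i') (hj : j ≤ j') :
    band D i j ⟶ band D i' j' where
  f n := AddCommGrpCat.ofHom ((ind D i' j' n).comp (Supp D i j n).subtype)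
  comm' n m h := by
    obtain rfl : n + 1 = m := h
    refine AddCommGrpCat.ext fun x => ?_
    show ((band D i' j').d n (n + 1)).hom (ind D i' j' n x.1) =
      ind D i' j' (n + 1) (((band D i j).d n (n + 1)).hom x).1
    rw [band_d, band_d]
    exact ind_dT_ind D hi hj x

lemma bandMap_id (i j : EInt) : bandMap D i j i j le_rfl le_rfl = 𝟙 _ := by
  ext n x
  exact ind_self D x

lemma bandMap_comp (i j i' j' i'' j'' : EInt) (hi : i ≤ i') (hj : j ≤ j') (hi' : i' ≤ i'')
    (hj' : j' ≤ j'') :
    bandMap D i j i' j' hi hj ≫ bandMap D i' j' i'' j'' hi' hj' =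
      bandMap D i j i'' j'' (hi.trans hi') (hj.trans hj') := by
  ext n (x : Supp D i j n)
  show ind D i'' j'' n (ind D i' j' n x.1).1 = ind D i'' j'' n x.1
  apply Subtype.ext
  refine W.ext fun p q h => ?_
  by_cases hp : Mem i'' j'' p
  · rw [ind_pos D _ h hp, ind_pos D _ h hp]
    by_cases hp' : Mem i' j' p
    · exact ind_pos D _ h hp'
    · rw [ind_neg D _ h hp']
      exact (x.2 p q h fun hc => hp' ⟨hi'.trans hp.1, lt_of_lt_of_le hc.2 hj⟩).symm
  · rw [ind_neg D _ h hp, ind_neg D _ h hp]

lemma bandMap_zero (i j k : EInt) (hij : i ≤ j) (hjk : j ≤ k) :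
    bandMap D i j i k le_rfl hjk ≫ bandMap D i k j k hij le_rfl = 0 := by
  rw [bandMap_comp]
  ext n (x : Supp D i j n)
  show ind D j k n x.1 = 0
  apply Subtype.ext
  refine W.ext fun p q h => ?_
  by_cases hp : Mem j k p
  · rw [ind_pos D _ h hp]
    exact x.2 p q h fun hc => absurd (lt_of_le_of_lt hp.1 hc.2) (lt_irrefl _)
  · exact ind_neg D _ h hp

/-- The short complex of three bands. -/
noncomputable def bandSeq (i j k : EInt) (hij : i ≤ j) (hjk : j ≤ k) :
    ShortComplex (CochainComplex AddCommGrpCat.{u} ℤ) :=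
  ShortComplex.mk _ _ (bandMap_zero D i j k hij hjk)

lemma bandSeq_f (i j k : EInt) (hij : i ≤ j) (hjk : j ≤ k) :
    (bandSeq D i j k hij hjk).f = bandMap D i j i k le_rfl hjk := rfl

lemma bandSeq_g (i j k : EInt) (hij : i ≤ j) (hjk : j ≤ k) :
    (bandSeq D i j k hij hjk).g = bandMap D i k j k hij le_rfl := rfl

theorem shortExact_bandSeq (i j k : EInt) (hij : i ≤ j) (hjk : j ≤ k) :
    (bandSeq D i j k hij hjk).ShortExact := by
  refine HomologicalComplex.shortExact_of_degreewise_shortExact _ fun n => ?_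
  have mem₁ : ∀ p, Mem i j p → Mem i k p := fun p hp => ⟨hp.1, lt_of_lt_of_le hp.2 hjk⟩
  have mem₂ : ∀ p, Mem j k p → Mem i k p := fun p hp => ⟨hij.trans hp.1, hp.2⟩
  have mem₃ : ∀ p, Mem i k p → ¬ Mem j k p → Mem i j p := fun p hp hn =>
    ⟨hp.1, lt_of_not_ge fun hc => hn ⟨hc, hp.2⟩⟩
  refine
    { exact := ?_
      mono_f := ?_
      epi_g := ?_ }
  · rw [ShortComplex.ab_exact_iff]
    intro (x : Supp D i k n) hx
    change ind D j k n x.1 = 0 at hx
    refine ⟨ind D i j n x.1, ?_⟩
    show ind D i k n (ind D i j n x.1).1 = x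
    apply Subtype.ext
    refine W.ext fun p q h => ?_
    by_cases hp : Mem i k p
    · rw [ind_pos D _ h hp]
      by_cases hp' : Mem i j p
      · exact ind_pos D _ h hp'
      · rw [ind_neg D _ h hp']
        have hp'' : Mem j k p := by
          by_contra hn
          exact hp' (mem₃ p hp hn)
        have := congrArg (fun z => z.1.at p q h) hx
        rw [ind_pos D _ h hp''] at this
        exact this.symm
    · rw [ind_neg D _ h hp]
      exact (x.2 p q h hp).symm
  · rw [AddCommGrpCat.mono_iff_injective]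
    intro (x : Supp D i j n) (y : Supp D i j n) hxy
    change ind D i k n x.1 = ind D i k n y.1 at hxy
    apply Subtype.ext
    refine W.ext fun p q h => ?_
    by_cases hp : Mem i j p
    · have := congrArg (fun z => z.1.at p q h) hxy
      rwa [ind_pos D _ h (mem₁ p hp), ind_pos D _ h (mem₁ p hp)] at this
    · rw [x.2 p q h hp, y.2 p q h hp]
  · rw [AddCommGrpCat.epi_iff_surjective]
    intro (y : Supp D j k n)
    refine ⟨ind D i k n y.1, ?_⟩
    show ind D j k n (ind D i k n y.1).1 = y
    apply Subtype.ext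
    refine W.ext fun p q h => ?_
    by_cases hp : Mem j k p
    · rw [ind_pos D _ h hp, ind_pos D _ h (mem₂ p hp)]
    · rw [ind_neg D _ h hp, y.2 p q h hp]

variable (φ : EInt →o EInt)

/-- The band functor. -/
noncomputable def bandFunctor :
    ComposableArrows EInt 1 ⥤ CochainComplex AddCommGrpCat.{u} ℤ where
  obj A := band D (φ (A.obj 0)) (φ (A.obj 1))
  map f := bandMap D _ _ _ _ (φ.monotone (leOfHom (f.app 0))) (φ.monotone (leOfHom (f.app 1)))
  map_id _ := bandMap_id D _ _
  map_comp _ _ := (bandMap_comp D _ _ _ _ _ _ _ _ _ _).symm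

/-- The short exact sequence of a pair of arrows. -/
noncomputable abbrev arrSeq (A : ComposableArrows EInt 2) :
    ShortComplex (CochainComplex AddCommGrpCat.{u} ℤ) :=
  bandSeq D (φ (A.obj 0)) (φ (A.obj 1)) (φ (A.obj 2))
    (φ.monotone (leOfHom (A.map' 0 1))) (φ.monotone (leOfHom (A.map' 1 2)))

/-- The map of short exact sequences. -/
noncomputable def arrSeqMap {A B : ComposableArrows EInt 2} (f : A ⟶ B) :
    arrSeq D φ A ⟶ arrSeq D φ B where
  τ₁ := bandMap D _ _ _ _ (φ.monotone (leOfHom (f.app 0))) (φ.monotone (leOfHom (f.app 1)))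
  τ₂ := bandMap D _ _ _ _ (φ.monotone (leOfHom (f.app 0))) (φ.monotone (leOfHom (f.app 2)))
  τ₃ := bandMap D _ _ _ _ (φ.monotone (leOfHom (f.app 1))) (φ.monotone (leOfHom (f.app 2)))
  comm₁₂ := by
    simp only [arrSeq, bandSeq_f, bandSeq_g]
    rw [bandMap_comp, bandMap_comp]
  comm₂₃ := by
    simp only [arrSeq, bandSeq_f, bandSeq_g]
    rw [bandMap_comp, bandMap_comp]

/-- The spectral object of a double complex. -/
noncomputable def spObj : Abelian.SpectralObject AddCommGrpCat.{u} EInt where
  H n := bandFunctor D φ ⋙ HomologicalComplex.homologyFunctor _ _ n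
  δ' n₀ n₁ h :=
    { app := fun A => (shortExact_bandSeq D _ _ _ _ _).δ n₀ n₁ h
      naturality := fun A B f => (HomologicalComplex.HomologySequence.δ_naturality (arrSeqMap D φ f)
        (shortExact_bandSeq D _ _ _ _ _) (shortExact_bandSeq D _ _ _ _ _) n₀ n₁ h).symm }
  exact₁' n₀ n₁ h A :=
    (ShortComplex.ShortExact.homology_exact₁ (shortExact_bandSeq D _ _ _ _ _) n₀ n₁ h).exact_toComposableArrows
  exact₂' n A :=
    (ShortComplex.ShortExact.homology_exact₂ (shortExact_bandSeq D _ _ _ _ _) n).exact_toComposableArrows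
  exact₃' n₀ n₁ h A :=
    (ShortComplex.ShortExact.homology_exact₃ (shortExact_bandSeq D _ _ _ _ _) n₀ n₁ h).exact_toComposableArrows

end Groth.Agent.H15Site.DoubleSS
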